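import Mathlib
import Cfsg.Agent.S0989
import Cfsg.Agent.S0990
import Cfsg.Agent.S0991
import Cfsg.Agent.SmallSimple.Embed
set_option linter.all false

/-!
Simple groups with a subgroup of index `p` or `p + 1` and Sylow `p`-subgroups of order `p`.
-/

set_option autoImplicit false

namespace Cfsg.Agent.Classification.SmallOrders.PrimeDegree

open Subgroup

theorem aux {G : Type*} [Group G] [Finite G] {p : ℕ} [hp : Fact p.Prime] (hp2 : p ≠ 2)
    (P : Sylow p G) (hP : Nat.card P = p) (k : ℕ) (hidx : k = p ∨ k = p + 1)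
    (f : G →* ↥(alternatingGroup (Fin k))) (hf : Function.Injective f) :
    2 * Nat.card (normalizer ((P : Subgroup G) : Set G)) ∣ p * (p - 1) := by
  classical
  have hpp : p.Prime := hp.out
  have hp3 : 2 < p := lt_of_le_of_ne hpp.two_le (Ne.symm hp2)
  have hcardk : Fintype.card (Fin k) = p ∨ Fintype.card (Fin k) = p + 1 := by
    rw [Fintype.card_fin]; exact hidx
  -- the image of `P` in the symmetric group
  let A := alternatingGroup (Fin k)
  let R : Subgroup A := (P : Subgroup G).map f
  let Q0 : Subgroup (Equiv.Perm (Fin k)) := R.map A.subtype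
  have hRcard : Nat.card R = p := by
    rw [← hP]
    exact (Nat.card_congr ((P : Subgroup G).equivMapOfInjective f hf).toEquiv).symm
  have hQ0card : Nat.card Q0 = p := by
    rw [← hRcard]
    exact (Nat.card_congr (R.equivMapOfInjective A.subtype A.subtype_injective).toEquiv).symm
  have hQ0p : IsPGroup p Q0 := IsPGroup.of_card (n := 1) (by rw [hQ0card, pow_one])
  obtain ⟨Q, hQ⟩ := hQ0p.exists_le_sylow
  have hQcard : Nat.card (Q : Subgroup (Equiv.Perm (Fin k))) = p := Cfsg.Agent.S0989.card_sylow p hcardk Q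
  have hQeq : Q0 = (Q : Subgroup (Equiv.Perm (Fin k))) :=
    Subgroup.eq_of_le_of_card_ge hQ (by rw [hQcard, hQ0card])
  have h1 := Cfsg.Agent.S0989.result p hcardk Q
  have h2 := (Cfsg.Agent.S0990.result (by rw [Fintype.card_fin]; omega) p hp2 Q).2
  have hQR : (Q : Subgroup (Equiv.Perm (Fin k))).subgroupOf A = R := by
    rw [← hQeq]
    exact Subgroup.comap_map_eq_self_of_injective A.subtype_injective R
  rw [hQR, h1] at h2
  rw [← h2]
  apply Nat.mul_dvd_mul_left
  have h3 : (normalizer ((P : Subgroup G) : Set G)).map f ≤ normalizer (R : Set A) := by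
    exact Subgroup.le_normalizer_map f
  have h4 := Subgroup.card_dvd_of_le h3
  have h5 := Nat.card_congr
    (((normalizer ((P : Subgroup G) : Set G)).equivMapOfInjective f hf).toEquiv)
  rw [h5]
  exact h4

/-- If a non-abelian finite simple group has Sylow `p`-subgroups of odd prime order `p` and a proper
subgroup of index `p` or `p + 1`, then `2 * |N(P)|` divides `p * (p - 1)`. -/
theorem two_mul_card_normalizer_dvd {G : Type*} [Group G] [Finite G] [IsSimpleGroup G]
    (hG : ¬ IsMulCommutative G) {p : ℕ} [hp : Fact p.Prime] (hp2 : p ≠ 2)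
    (P : Sylow p G) (hP : Nat.card P = p) (H : Subgroup G) (hH : H ≠ ⊤)
    (hidx : H.index = p ∨ H.index = p + 1) :
    2 * Nat.card (normalizer ((P : Subgroup G) : Set G)) ∣ p * (p - 1) := by
  obtain ⟨f, hf⟩ := Cfsg.Agent.S0991.result hG H hH
  exact aux hp2 P hP _ hidx f hf

end Cfsg.Agent.Classification.SmallOrders.PrimeDegree
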